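import Groth.Agent.CAlgH.FlatFormallySmooth
import Mathlib

/-!
# Flat deformations of smooth algebras over `k[τ]/(τ^(n+1))` and their differentials
-/

universe u

open Polynomial TensorProduct

noncomputable section

namespace Groth.Agent.TruncDeform29

variable {k : Type u} [Field k] {n : ℕ}
  {D : Type u} [CommRing D] [Algebra k D] {τ : D}
  {B : Type u} [CommRing B] [Algebra k B] [Algebra D B] [IsScalarTower k D B] {t : B}

theorem surjective_aeval (e : (k[X] ⧸ Ideal.span {(X : k[X]) ^ (n + 1)}) ≃ₐ[k] D)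
    (he : e (Ideal.Quotient.mk (Ideal.span {(X : k[X]) ^ (n + 1)}) X) = τ) :
    Function.Surjective (aeval τ : k[X] →ₐ[k] D) := by
  have h : (aeval τ : k[X] →ₐ[k] D) = e.toAlgHom.comp (Ideal.Quotient.mkₐ k _) := by
    refine Polynomial.algHom_ext ?_
    rw [aeval_X]
    exact he.symm
  rw [h]
  exact e.surjective.comp (Ideal.Quotient.mkₐ_surjective k _)

theorem tau_pow (e : (k[X] ⧸ Ideal.span {(X : k[X]) ^ (n + 1)}) ≃ₐ[k] D)
    (he : e (Ideal.Quotient.mk (Ideal.span {(X : k[X]) ^ (n + 1)}) X) = τ) : τ ^ (n + 1) = 0 := by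
  rw [← he, ← map_pow, ← map_pow, Ideal.Quotient.eq_zero_iff_mem.2 (Ideal.mem_span_singleton_self _), map_zero]

theorem formallySmooth_of_fibre (e : (k[X] ⧸ Ideal.span {(X : k[X]) ^ (n + 1)}) ≃ₐ[k] D)
    (he : e (Ideal.Quotient.mk (Ideal.span {(X : k[X]) ^ (n + 1)}) X) = τ) [Module.Flat D B]
    (ht : t = algebraMap D B τ) (hsm : Algebra.Smooth k (B ⧸ Ideal.span {t})) : Algebra.FormallySmooth D B := by
  let π₀ : (k[X] ⧸ Ideal.span {(X : k[X]) ^ (n + 1)}) →ₐ[k] k :=
    Ideal.Quotient.liftₐ _ (aeval (0 : k)) (fun a ha => by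
      obtain ⟨g, rfl⟩ := Ideal.mem_span_singleton'.1 ha
      simp)
  let π : D →ₐ[k] k := π₀.comp e.symm.toAlgHom
  have hπτ : π τ = 0 := by
    show π₀ (e.symm τ) = 0
    rw [← he, AlgEquiv.symm_apply_apply]
    simp [π₀]
  have hcomm : (Ideal.Quotient.mk (Ideal.span {t})).comp (algebraMap D B) =
      (algebraMap k (B ⧸ Ideal.span {t})).comp π.toRingHom := by
    have h : (Ideal.Quotient.mkₐ k (Ideal.span {t})).comp (IsScalarTower.toAlgHom k D B) =
        (Algebra.ofId k (B ⧸ Ideal.span {t})).comp π := by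
      refine AlgHom.ext fun d => ?_
      obtain ⟨g, rfl⟩ := surjective_aeval e he d
      rw [← AlgHom.comp_apply, ← AlgHom.comp_apply]
      congr 1
      refine Polynomial.algHom_ext ?_
      show Ideal.Quotient.mk (Ideal.span {t}) (algebraMap D B (aeval τ X)) = algebraMap k _ (π (aeval τ X))
      rw [aeval_X, ← ht, hπτ, map_zero]
      exact Ideal.Quotient.eq_zero_iff_mem.2 (Ideal.mem_span_singleton_self t)
    exact congrArg AlgHom.toRingHom h
  have hπsurj : Function.Surjective π := fun c => ⟨algebraMap k D c, π.commutes c⟩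
  have hkerπ : RingHom.ker π.toRingHom = Ideal.span {τ} := by
    refine le_antisymm (fun d hd => ?_) ((Ideal.span_le).2 (by simpa using! hπτ))
    obtain ⟨g, rfl⟩ := surjective_aeval e he d
    have hg : g.eval 0 = 0 := by
      have h : π.comp (aeval τ) = aeval (0 : k) := Polynomial.algHom_ext (by simpa using hπτ)
      have := AlgHom.congr_fun h g
      rw [AlgHom.comp_apply, show π (aeval τ g) = 0 from hd, coe_aeval_eq_eval] at this
      exact this.symm
    obtain ⟨q, rfl⟩ := (X_dvd_iff (f := g)).2 (by rw [coeff_zero_eq_eval_zero]; exact hg)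
    rw [map_mul, aeval_X]
    exact Ideal.mul_mem_right _ _ (Ideal.mem_span_singleton_self τ)
  haveI := hsm.formallySmooth
  refine Groth.Agent.CAlgH.formallySmooth_of_flat_of_nilpotent π.toRingHom hπsurj ?_
    (Ideal.Quotient.mk (Ideal.span {t})) Ideal.Quotient.mk_surjective hcomm ?_
  · refine ⟨n + 1, ?_⟩
    rw [hkerπ, Ideal.span_singleton_pow, tau_pow e he, Ideal.span_singleton_zero, Ideal.zero_eq_bot]
  · rw [Ideal.mk_ker, hkerπ, Ideal.map_span, Set.image_singleton, ← ht]

theorem t_pow (e : (k[X] ⧸ Ideal.span {(X : k[X]) ^ (n + 1)}) ≃ₐ[k] D)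
    (he : e (Ideal.Quotient.mk (Ideal.span {(X : k[X]) ^ (n + 1)}) X) = τ) (ht : t = algebraMap D B τ) :
    t ^ (n + 1) = 0 := by
  rw [ht, ← map_pow, tau_pow e he, map_zero]

theorem exists_lift_algHom {T C : Type u} [CommRing T] [Algebra k T] [CommRing C] [Algebra k C] [Algebra D C]
    [IsScalarTower k D C] [Algebra.FormallySmooth D B] (ψ : D →ₐ[k] T) (f : T →ₐ[k] C)
    (hf : Function.Surjective f) (hnil : IsNilpotent (RingHom.ker (f : T →+* C)))
    (q : B →ₐ[D] C) (hfψ : ∀ d, f (ψ d) = algebraMap D C d) :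
    ∃ L : B →ₐ[k] T, (∀ b, f (L b) = q b) ∧ ∀ d, L (algebraMap D B d) = ψ d := by
  letI : Algebra D T := ψ.toRingHom.toAlgebra
  haveI : IsScalarTower k D T := IsScalarTower.of_algHom ψ
  let f' : T →ₐ[D] C := { f.toRingHom with commutes' := hfψ }
  let L : B →ₐ[D] T := Algebra.FormallySmooth.liftOfSurjective q f' hf hnil
  exact ⟨L.restrictScalars k, fun b => Algebra.FormallySmooth.liftOfSurjective_apply q f' hf hnil b,
    fun d => L.commutes d⟩

/-- A derivation `B → B/t^n` with `t ↦ 1`. -/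
theorem exists_derivation (e : (k[X] ⧸ Ideal.span {(X : k[X]) ^ (n + 1)}) ≃ₐ[k] D)
    (he : e (Ideal.Quotient.mk (Ideal.span {(X : k[X]) ^ (n + 1)}) X) = τ) [Algebra.FormallySmooth D B]
    (ht : t = algebraMap D B τ) :
    ∃ δ : Derivation k B (B ⧸ Ideal.span {t ^ n}), δ t = 1 := by
  let B' := B ⧸ Ideal.span {t ^ n}
  let T := TrivSqZeroExt B' B'
  have htn : (Ideal.Quotient.mk (Ideal.span {t ^ n}) t) ^ n = 0 := by
    rw [← map_pow]; exact Ideal.Quotient.eq_zero_iff_mem.2 (Ideal.mem_span_singleton_self _)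
  let x : T := TrivSqZeroExt.inl (Ideal.Quotient.mk _ t) + TrivSqZeroExt.inr 1
  have hfx : x.fst = Ideal.Quotient.mk _ t := by
    show (TrivSqZeroExt.inl _ + TrivSqZeroExt.inr 1 : T).fst = _
    rw [TrivSqZeroExt.fst_add, TrivSqZeroExt.fst_inl, TrivSqZeroExt.fst_inr, add_zero]
  have hsx : x.snd = 1 := by
    show (TrivSqZeroExt.inl _ + TrivSqZeroExt.inr 1 : T).snd = _
    rw [TrivSqZeroExt.snd_add, TrivSqZeroExt.snd_inl, TrivSqZeroExt.snd_inr, zero_add]
  have hx : x ^ (n + 1) = 0 := by
    refine TrivSqZeroExt.ext ?_ ?_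
    · rw [TrivSqZeroExt.fst_pow, hfx, pow_succ, htn, zero_mul]; rfl
    · rw [TrivSqZeroExt.snd_pow, hfx, hsx, Nat.pred_succ, htn, zero_smul, smul_zero]; rfl
  let ψ₀ : (k[X] ⧸ Ideal.span {(X : k[X]) ^ (n + 1)}) →ₐ[k] T :=
    Ideal.Quotient.liftₐ _ (aeval x) (fun a ha => by
      obtain ⟨g, rfl⟩ := Ideal.mem_span_singleton'.1 ha
      simp [hx])
  let ψ : D →ₐ[k] T := ψ₀.comp e.symm.toAlgHom
  have hψτ : ψ τ = x := by
    show ψ₀ (e.symm τ) = x
    rw [← he, AlgEquiv.symm_apply_apply]
    exact (Ideal.Quotient.lift_mk _ _ _).trans (aeval_X x)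
  have hfst : (TrivSqZeroExt.fstHom k B' B').comp ψ = IsScalarTower.toAlgHom k D B' := by
    refine AlgHom.ext fun d => ?_
    obtain ⟨g, rfl⟩ := surjective_aeval e he d
    rw [← AlgHom.comp_apply, ← AlgHom.comp_apply]
    congr 1
    refine Polynomial.algHom_ext ?_
    show (ψ (aeval τ X)).fst = algebraMap D B' (aeval τ X)
    rw [aeval_X, hψτ, hfx]
    subst ht
    rfl
  have hfsurj : Function.Surjective (TrivSqZeroExt.fstHom k B' B') :=
    fun b => ⟨(TrivSqZeroExt.inl b : T), TrivSqZeroExt.fst_inl B' b⟩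
  have hfker : IsNilpotent (RingHom.ker ((TrivSqZeroExt.fstHom k B' B') : T →+* B')) := by
    refine ⟨2, ?_⟩
    rw [Ideal.zero_eq_bot, eq_bot_iff, Submodule.pow_succ, Submodule.pow_one, Ideal.mul_le]
    intro a ha b hb
    have ha' : a.fst = 0 := ha
    have hb' : b.fst = 0 := hb
    refine (Submodule.mem_bot _).2 (TrivSqZeroExt.ext ?_ ?_)
    · exact (TrivSqZeroExt.fst_mul a b).trans (by rw [ha', zero_mul]; rfl)
    · exact (TrivSqZeroExt.snd_mul a b).trans (by rw [ha', hb', zero_smul, MulOpposite.op_zero, zero_smul, add_zero]; rfl)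
  obtain ⟨L, hL, hLD⟩ := exists_lift_algHom ψ (TrivSqZeroExt.fstHom k B' B') hfsurj hfker
    (IsScalarTower.toAlgHom D B B') (fun d => AlgHom.congr_fun hfst d)
  refine ⟨Derivation.mk' ((TrivSqZeroExt.sndHom B' B').restrictScalars k ∘ₗ L.toLinearMap)
    (fun a b => ?_), ?_⟩
  · show (L (a * b)).snd = a • (L b).snd + b • (L a).snd
    rw [map_mul, TrivSqZeroExt.snd_mul, show (L a).fst = Ideal.Quotient.mk _ a from hL a,
      show (L b).fst = Ideal.Quotient.mk _ b from hL b, op_smul_eq_smul]
    simp only [Algebra.smul_def, Ideal.Quotient.algebraMap_eq, Algebra.algebraMap_self, RingHom.id_apply]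
    rfl
  · show (L t).snd = 1
    rw [show L t = x from (congrArg L ht).trans ((hLD τ).trans hψτ), hsx]

section Sequence

variable (e : (k[X] ⧸ Ideal.span {(X : k[X]) ^ (n + 1)}) ≃ₐ[k] D)
  (he : e (Ideal.Quotient.mk (Ideal.span {(X : k[X]) ^ (n + 1)}) X) = τ) (ht : t = algebraMap D B τ)

local notation "B'" => B ⧸ Ideal.span {t ^ n}

include e he ht in
theorem D_mem_span (d : D) :
    KaehlerDifferential.D k B (algebraMap D B d) ∈ Submodule.span B {KaehlerDifferential.D k B t} := by
  obtain ⟨g, rfl⟩ := surjective_aeval e he d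
  rw [← aeval_algebraMap_apply, ← ht, Derivation.map_aeval]
  exact Submodule.smul_mem _ _ (Submodule.mem_span_singleton_self _)

include e he ht in
theorem ker_map (η : Ω[B⁄k]) (hη : KaehlerDifferential.map k D B B η = 0) :
    ∃ b : B, η = b • KaehlerDifferential.D k B t := by
  have h : η ∈ LinearMap.range (KaehlerDifferential.mapBaseChange k D B) := by
    rw [KaehlerDifferential.range_mapBaseChange]; exact hη
  obtain ⟨z, rfl⟩ := h
  have : KaehlerDifferential.mapBaseChange k D B z ∈ Submodule.span B {KaehlerDifferential.D k B t} := by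
    clear hη
    induction z with
    | zero => simp
    | add x y hx hy => rw [map_add]; exact add_mem hx hy
    | tmul r s =>
      rw [KaehlerDifferential.mapBaseChange_tmul]
      refine Submodule.smul_mem _ _ ?_
      obtain ⟨c, rfl⟩ := KaehlerDifferential.linearCombination_surjective k D s
      induction c using Finsupp.induction_linear with
      | zero => simp
      | add f g hf hg => rw [map_add, map_add]; exact add_mem hf hg
      | single i a =>
        rw [Finsupp.linearCombination_single, map_smul, KaehlerDifferential.map_D, ← algebraMap_smul B]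
        exact Submodule.smul_mem _ _ (D_mem_span e he ht i)
  obtain ⟨b, hb⟩ := Submodule.mem_span_singleton.1 this
  exact ⟨b, hb.symm⟩

include ht in
theorem D_relative_t : KaehlerDifferential.D D B t = 0 := by
  subst ht
  exact Derivation.map_algebraMap _ _

include e he ht in
theorem exact_seq [Algebra.FormallySmooth D B] :
    Function.Exact (LinearMap.toSpanSingleton B' (B' ⊗[B] Ω[B⁄k]) ((1 : B') ⊗ₜ[B] KaehlerDifferential.D k B t))
      (LinearMap.baseChange B' (KaehlerDifferential.map k D B B)) := by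
  have h0 : Function.Exact (LinearMap.toSpanSingleton B (Ω[B⁄k]) (KaehlerDifferential.D k B t))
      (KaehlerDifferential.map k D B B) := by
    intro η
    constructor
    · intro h
      obtain ⟨b, hb⟩ := ker_map e he ht η h
      exact ⟨b, hb.symm⟩
    · rintro ⟨b, rfl⟩
      rw [LinearMap.toSpanSingleton_apply, map_smul, KaehlerDifferential.map_D, Algebra.algebraMap_self,
        RingHom.id_apply, D_relative_t ht, smul_zero]
  have h1 := lTensor_exact B' h0 (KaehlerDifferential.map_surjective k D B)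
  intro z
  constructor
  · intro h
    obtain ⟨w, hw⟩ := (h1 z).1 h
    refine ⟨TensorProduct.rid B B' w, ?_⟩
    rw [← hw]
    clear hw
    induction w with
    | zero => simp
    | add x y hx hy => rw [map_add, map_add, map_add, hx, hy]
    | tmul r b =>
      rw [TensorProduct.rid_tmul, LinearMap.lTensor_tmul, LinearMap.toSpanSingleton_apply,
        LinearMap.toSpanSingleton_apply, TensorProduct.smul_tmul', smul_eq_mul, mul_one, TensorProduct.smul_tmul]
  · rintro ⟨c, rfl⟩
    rw [LinearMap.toSpanSingleton_apply, map_smul, LinearMap.baseChange_tmul,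
      KaehlerDifferential.map_D, Algebra.algebraMap_self, RingHom.id_apply, D_relative_t ht,
      TensorProduct.tmul_zero, smul_zero]

include e he ht in
theorem exists_retraction [Algebra.FormallySmooth D B] :
    ∃ ρ : B' ⊗[B] Ω[B⁄k] →ₗ[B'] B', ρ ((1 : B') ⊗ₜ[B] KaehlerDifferential.D k B t) = 1 := by
  obtain ⟨δ, hδ⟩ := exists_derivation (B := B) e he ht
  refine ⟨(TensorProduct.isBaseChange B (Ω[B⁄k]) B').lift δ.liftKaehlerDifferential, ?_⟩
  exact ((TensorProduct.isBaseChange B (Ω[B⁄k]) B').lift_eq _ _).trans ((δ.liftKaehlerDifferential_comp_D t).trans hδ)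

include e he ht in
theorem injective_first [Algebra.FormallySmooth D B] :
    Function.Injective (LinearMap.toSpanSingleton B' (B' ⊗[B] Ω[B⁄k]) ((1 : B') ⊗ₜ[B] KaehlerDifferential.D k B t)) := by
  obtain ⟨ρ, hρ⟩ := exists_retraction (B := B) e he ht
  intro a b h
  have := congrArg ρ h
  rw [LinearMap.toSpanSingleton_apply, LinearMap.toSpanSingleton_apply, map_smul, map_smul, hρ, smul_eq_mul,
    smul_eq_mul, mul_one, mul_one] at this
  exact this

include e he ht in
theorem projective_middle [Algebra.FormallySmooth D B] :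
    Module.Projective B' (B' ⊗[B] Ω[B⁄k]) := by
  obtain ⟨ρ, hρ⟩ := exists_retraction (B := B) e he ht
  let g := LinearMap.baseChange B' (KaehlerDifferential.map k D B B)
  have hg : Function.Surjective g := LinearMap.lTensor_surjective _ (KaehlerDifferential.map_surjective k D B)
  let Φ := ρ.prod g
  have hb : Function.Bijective Φ := by
    constructor
    · rw [← LinearMap.ker_eq_bot, LinearMap.ker_eq_bot']
      intro m hm
      obtain ⟨b, rfl⟩ := (exact_seq e he ht m).1 (congrArg Prod.snd hm)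
      have h1 : ρ (LinearMap.toSpanSingleton B' _ ((1 : B') ⊗ₜ[B] KaehlerDifferential.D k B t) b) = 0 :=
        congrArg Prod.fst hm
      rw [LinearMap.toSpanSingleton_apply, map_smul, hρ, smul_eq_mul, mul_one] at h1
      rw [h1, map_zero]
    · rintro ⟨b, q⟩
      obtain ⟨m, rfl⟩ := hg q
      refine ⟨m + (b - ρ m) • ((1 : B') ⊗ₜ[B] KaehlerDifferential.D k B t), Prod.ext ?_ ?_⟩
      · show ρ _ = b
        rw [map_add, map_smul, hρ, smul_eq_mul, mul_one, add_sub_cancel]
      · show g _ = g m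
        rw [map_add, show g ((b - ρ m) • ((1 : B') ⊗ₜ[B] KaehlerDifferential.D k B t)) = 0 from
          (exact_seq e he ht).apply_apply_eq_zero (b - ρ m), add_zero]
  exact Module.Projective.of_equiv (LinearEquiv.ofBijective Φ hb).symm

end Sequence

section Sections

variable (e : (k[X] ⧸ Ideal.span {(X : k[X]) ^ (n + 1)}) ≃ₐ[k] D)
  (he : e (Ideal.Quotient.mk (Ideal.span {(X : k[X]) ^ (n + 1)}) X) = τ) (ht : t = algebraMap D B τ)

local notation "B'" => B ⧸ Ideal.span {t ^ n}

theorem mk_t_pow : (Ideal.Quotient.mk (Ideal.span {t ^ n}) (t ^ n) : B') = 0 :=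
  Ideal.Quotient.eq_zero_iff_mem.2 (Ideal.mem_span_singleton_self _)

theorem one_tmul_D_mul (h : B) :
    (1 : B') ⊗ₜ[B] KaehlerDifferential.D k B (t ^ n * h) =
      Ideal.Quotient.mk (Ideal.span {t ^ n}) ((n : B) * t ^ (n - 1) * h) • ((1 : B') ⊗ₜ[B] KaehlerDifferential.D k B t) := by
  rw [Derivation.leibniz, Derivation.leibniz_pow, TensorProduct.tmul_add, ← TensorProduct.smul_tmul (t ^ n),
    Algebra.smul_def (t ^ n), mul_one, Ideal.Quotient.algebraMap_eq, mk_t_pow, TensorProduct.zero_tmul, zero_add,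
    TensorProduct.smul_tmul', smul_eq_mul, mul_one, smul_comm h, ← Nat.cast_smul_eq_nsmul B, smul_smul, smul_smul,
    ← TensorProduct.smul_tmul, Algebra.smul_def, mul_one, Ideal.Quotient.algebraMap_eq]
  congr 2
  ring

include e he ht in
theorem injective_mu [CharZero k] (hn : 1 ≤ n) [Algebra.FormallySmooth D B] :
    Function.Injective (fun f : B =>
      ((Ideal.Quotient.mk (Ideal.span {t ^ n}) f, (1 : B') ⊗ₜ[B] KaehlerDifferential.D k B f) : B' × (B' ⊗[B] Ω[B⁄k]))) := by
  intro f₁ f₂ h
  simp only [Prod.mk.injEq] at h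
  obtain ⟨g, hg⟩ := Ideal.mem_span_singleton'.1 (Ideal.Quotient.eq.1 h.1)
  have h2 : (1 : B') ⊗ₜ[B] KaehlerDifferential.D k B (t ^ n * g) = 0 := by
    rw [mul_comm, hg, map_sub, TensorProduct.tmul_sub, h.2, sub_self]
  rw [one_tmul_D_mul] at h2
  have h3 := injective_first (B := B) e he ht (h2.trans (map_zero _).symm)
  obtain ⟨m, hm⟩ := Ideal.mem_span_singleton'.1 (Ideal.Quotient.eq_zero_iff_mem.1 h3)
  have hu : IsUnit ((n : B)) := by
    have : IsUnit ((n : k)) := isUnit_iff_ne_zero.2 (Nat.cast_ne_zero.2 (by omega))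
    simpa using this.map (algebraMap k B)
  have h4 : (n : B) * (t ^ n * g) = 0 := by
    have ht' : t * t ^ (n - 1) = t ^ n := by rw [← pow_succ', Nat.sub_add_cancel hn]
    calc (n : B) * (t ^ n * g) = t * ((n : B) * t ^ (n - 1) * g) := by rw [← ht']; ring
      _ = m * t ^ (n + 1) := by rw [← hm]; ring
      _ = 0 := by rw [t_pow e he ht, mul_zero]
  have := hu.mul_right_eq_zero.1 h4
  rw [mul_comm, hg] at this
  exact sub_eq_zero.1 this

theorem range_mu :
    Set.range (fun f : B =>
      ((Ideal.Quotient.mk (Ideal.span {t ^ n}) f, (1 : B') ⊗ₜ[B] KaehlerDifferential.D k B f) : B' × (B' ⊗[B] Ω[B⁄k]))) =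
      {p | KaehlerDifferential.D k B' p.1 = KaehlerDifferential.mapBaseChange k B B' p.2} := by
  have key : ∀ f : B, KaehlerDifferential.D k B' (Ideal.Quotient.mk (Ideal.span {t ^ n}) f) =
      KaehlerDifferential.mapBaseChange k B B' ((1 : B') ⊗ₜ[B] KaehlerDifferential.D k B f) := fun f => by
    rw [KaehlerDifferential.mapBaseChange_tmul, one_smul, KaehlerDifferential.map_D]; rfl
  refine Set.eq_of_subset_of_subset ?_ ?_
  · rintro _ ⟨f, rfl⟩
    exact key f
  rintro ⟨g, α⟩ (hp : KaehlerDifferential.D k B' g = KaehlerDifferential.mapBaseChange k B B' α)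
  obtain ⟨f, rfl⟩ := Ideal.Quotient.mk_surjective g
  have h0 : KaehlerDifferential.mapBaseChange k B B' (α - (1 : B') ⊗ₜ[B] KaehlerDifferential.D k B f) = 0 := by
    rw [map_sub, ← hp, ← key, sub_self]
  obtain ⟨c, hc⟩ := (KaehlerDifferential.exact_kerCotangentToTensor_mapBaseChange k B B'
    Ideal.Quotient.mk_surjective _).1 h0
  obtain ⟨⟨x, hx⟩, rfl⟩ := Ideal.toCotangent_surjective _ c
  rw [KaehlerDifferential.kerCotangentToTensor_toCotangent] at hc
  have hx' : x ∈ Ideal.span {t ^ n} := Ideal.Quotient.eq_zero_iff_mem.1 hx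
  refine ⟨f + x, Prod.ext ?_ ?_⟩
  · show Ideal.Quotient.mk _ (f + x) = Ideal.Quotient.mk _ f
    rw [map_add, Ideal.Quotient.eq_zero_iff_mem.2 hx', add_zero]
  · show (1 : B') ⊗ₜ[B] KaehlerDifferential.D k B (f + x) = α
    rw [map_add, TensorProduct.tmul_add, hc, add_sub_cancel]

include e he ht in
theorem t_pow_smul_D [CharZero k] : t ^ n • KaehlerDifferential.D k B t = 0 := by
  have h := congrArg (KaehlerDifferential.D k B) (t_pow e he ht)
  rw [map_zero, Derivation.leibniz_pow, Nat.add_sub_cancel, ← Nat.cast_smul_eq_nsmul B] at h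
  have hu : IsUnit (((n + 1 : ℕ) : B)) := by
    have : IsUnit (((n + 1 : ℕ) : k)) := isUnit_iff_ne_zero.2 (Nat.cast_ne_zero.2 (by omega))
    simpa using! this.map (algebraMap k B)
  exact hu.smul_eq_zero.1 h

include e he ht in
theorem injective_nu [CharZero k] [Algebra.FormallySmooth D B] :
    Function.Injective (fun η : Ω[B⁄k] =>
      ((KaehlerDifferential.map k D B B η, (1 : B') ⊗ₜ[B] η) : Ω[B⁄D] × (B' ⊗[B] Ω[B⁄k]))) := by
  intro η₁ η₂ h
  simp only [Prod.mk.injEq] at h
  obtain ⟨b, hb⟩ := ker_map e he ht (η₁ - η₂) (by rw [map_sub, h.1, sub_self])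
  have h2 : (1 : B') ⊗ₜ[B] (η₁ - η₂) = 0 := by rw [TensorProduct.tmul_sub, h.2, sub_self]
  rw [hb, ← TensorProduct.smul_tmul, Algebra.smul_def, mul_one] at h2
  have h3 : LinearMap.toSpanSingleton B' (B' ⊗[B] Ω[B⁄k]) ((1 : B') ⊗ₜ[B] KaehlerDifferential.D k B t)
      (algebraMap B B' b) = 0 := by
    rw [LinearMap.toSpanSingleton_apply, TensorProduct.smul_tmul', smul_eq_mul, mul_one, h2]
  have h4 := injective_first (B := B) e he ht (h3.trans (map_zero _).symm)
  obtain ⟨m, hm⟩ := Ideal.mem_span_singleton'.1 (Ideal.Quotient.eq_zero_iff_mem.1 h4)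
  rw [← sub_eq_zero, hb, ← hm, mul_smul, t_pow_smul_D e he ht, smul_zero]

include e he ht in
theorem range_nu [Algebra.FormallySmooth D B] :
    Set.range (fun η : Ω[B⁄k] =>
      ((KaehlerDifferential.map k D B B η, (1 : B') ⊗ₜ[B] η) : Ω[B⁄D] × (B' ⊗[B] Ω[B⁄k]))) =
      {p | KaehlerDifferential.map D D B B' p.1 =
        KaehlerDifferential.map k D B' B' (KaehlerDifferential.mapBaseChange k B B' p.2)} := by
  -- the composite `B' ⊗ Ω[B/k] → Ω[B'/k] → Ω[B'/D]` factors through `B' ⊗ Ω[B/D]`
  have fac : ∀ z : B' ⊗[B] Ω[B⁄k],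
      KaehlerDifferential.map k D B' B' (KaehlerDifferential.mapBaseChange k B B' z) =
        KaehlerDifferential.mapBaseChange D B B' (LinearMap.baseChange B' (KaehlerDifferential.map k D B B) z) := by
    intro z
    induction z with
    | zero => simp
    | add x y hx hy => simp only [map_add, hx, hy]
    | tmul r s =>
      rw [KaehlerDifferential.mapBaseChange_tmul, map_smul, LinearMap.baseChange_tmul,
        KaehlerDifferential.mapBaseChange_tmul]
      congr 1
      obtain ⟨c, rfl⟩ := KaehlerDifferential.linearCombination_surjective k B s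
      induction c using Finsupp.induction_linear with
      | zero => simp
      | add f g hf hg => simp only [map_add, hf, hg]
      | single i a => simp [Finsupp.linearCombination_single]
  have hinj : Function.Injective (KaehlerDifferential.mapBaseChange D B B') := by
    rw [← LinearMap.ker_eq_bot, LinearMap.ker_eq_bot']
    intro z hz
    obtain ⟨c, rfl⟩ := (KaehlerDifferential.exact_kerCotangentToTensor_mapBaseChange D B B'
      Ideal.Quotient.mk_surjective _).1 hz
    obtain ⟨⟨x, hx⟩, rfl⟩ := Ideal.toCotangent_surjective _ c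
    rw [KaehlerDifferential.kerCotangentToTensor_toCotangent]
    obtain ⟨h, rfl⟩ := Ideal.mem_span_singleton'.1 (Ideal.Quotient.eq_zero_iff_mem.1 hx)
    show (1 : B') ⊗ₜ[B] KaehlerDifferential.D D B (h * t ^ n) = 0
    rw [Derivation.leibniz, show KaehlerDifferential.D D B (t ^ n) = 0 by
      rw [ht, ← map_pow, Derivation.map_algebraMap], smul_zero, zero_add,
      ← TensorProduct.smul_tmul, Algebra.smul_def, mul_one, Ideal.Quotient.algebraMap_eq, mk_t_pow,
      TensorProduct.zero_tmul]
  have key : ∀ η : Ω[B⁄k], KaehlerDifferential.map D D B B' (KaehlerDifferential.map k D B B η) =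
      KaehlerDifferential.map k D B' B' (KaehlerDifferential.mapBaseChange k B B' ((1 : B') ⊗ₜ[B] η)) := by
    intro η
    rw [fac, LinearMap.baseChange_tmul, KaehlerDifferential.mapBaseChange_tmul, one_smul]
  refine Set.eq_of_subset_of_subset ?_ ?_
  · rintro _ ⟨η, rfl⟩
    exact key η
  rintro ⟨α, β⟩ (hp : KaehlerDifferential.map D D B B' α = KaehlerDifferential.map k D B' B' (KaehlerDifferential.mapBaseChange k B B' β))
  obtain ⟨η, rfl⟩ := KaehlerDifferential.map_surjective k D B α
  have h0 : LinearMap.baseChange B' (KaehlerDifferential.map k D B B) (β - (1 : B') ⊗ₜ[B] η) = 0 := by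
    refine hinj ?_
    rw [map_zero, ← fac, map_sub, map_sub, ← hp, ← key, sub_self]
  obtain ⟨c, hc⟩ := (exact_seq e he ht _).1 h0
  obtain ⟨b, rfl⟩ := Ideal.Quotient.mk_surjective c
  refine ⟨η + b • KaehlerDifferential.D k B t, Prod.ext ?_ ?_⟩
  · show KaehlerDifferential.map k D B B (η + b • _) = _
    rw [map_add, map_smul, KaehlerDifferential.map_D, Algebra.algebraMap_self, RingHom.id_apply, D_relative_t ht,
      smul_zero, add_zero]
  · show (1 : B') ⊗ₜ[B] (η + b • _) = β
    rw [LinearMap.toSpanSingleton_apply, TensorProduct.smul_tmul', smul_eq_mul, mul_one] at hc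
    rw [TensorProduct.tmul_add, ← TensorProduct.smul_tmul, Algebra.smul_def, mul_one,
      Ideal.Quotient.algebraMap_eq, hc, add_sub_cancel]

end Sections

end Groth.Agent.TruncDeform29
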